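import Groth.Agent.ProjPt.Poly
import Groth.Agent.ProjPt.Sections
import Groth.Agent.ProjUPX.Sections
import Mathlib.RingTheory.Nullstellensatz

/-!
# Closed points of projective space over an algebraically closed field and linear forms
-/

set_option autoImplicit false
set_option backward.isDefEq.respectTransparency false
set_option backward.isDefEq.respectTransparency.types false
set_option linter.style.haveILetI false

universe u

open CategoryTheory AlgebraicGeometry TopologicalSpace Opposite HomogeneousLocalization MvPolynomial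
open Groth.Agent.ProjPt

noncomputable section

namespace Groth.Agent.SepPtTan

variable {k : Type u} [Field k] {n : ℕ}

/-- The linear form with coefficients `c` in the chart of `x_i`. -/
def lin (i : Fin (n + 1)) (c : Fin (n + 1) → k) : Away (CohB1.polyGrading n k) (X i) :=
  ∑ j, cst i (c j) * crd i j

lemma lin_sub_single (i j : Fin (n + 1)) (a : k) :
    lin i (Pi.single j 1 - a • Pi.single i 1) = crd i j - cst i a := by
  classical
  simp only [lin, Pi.sub_apply, Pi.smul_apply, smul_eq_mul, map_sub, map_mul, sub_mul,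
    Finset.sum_sub_distrib]
  congr 1
  · rw [Finset.sum_eq_single j (fun b _ hb => by rw [Pi.single_eq_of_ne hb, map_zero, zero_mul]) (by simp),
      Pi.single_eq_same, map_one, one_mul]
  · rw [Finset.sum_eq_single i (fun b _ hb => by rw [Pi.single_eq_of_ne hb, map_zero, mul_zero, zero_mul]) (by simp),
      Pi.single_eq_same, map_one, mul_one, crd_self, mul_one]

lemma chart_surjective (i : Fin (n + 1)) :
    Function.Surjective (eval₂Hom (cst (R := k) i) (crd (R := k) i)) := fun y => by
  obtain ⟨m, a, ha, rfl⟩ := Away.mk_surjective (CohB1.polyGrading n k) (X_mem i) y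
  exact ⟨a, (mk_eq_eval i m a ha).symm⟩

variable [IsAlgClosed k]

/-- A maximal ideal of a chart is generated by linear forms. -/
lemma exists_coord (i : Fin (n + 1)) (p : Ideal (Away (CohB1.polyGrading n k) (X i))) (hp : p.IsMaximal) :
    ∃ v : Fin (n + 1) → k, v i = 1 ∧ (∀ j, lin i (Pi.single j 1 - v j • Pi.single i 1) ∈ p) ∧
      p ≤ Ideal.span (Set.range fun j => lin i (Pi.single j 1 - v j • Pi.single i 1)) := by
  let Φ := eval₂Hom (cst (R := k) i) (crd (R := k) i)
  haveI : (p.comap Φ).IsMaximal := Ideal.comap_isMaximal_of_surjective Φ (chart_surjective i)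
  obtain ⟨v, hv⟩ := eq_vanishingIdeal_singleton_of_isMaximal k (σ := Fin (n + 1)) (k := k)
    (I := p.comap Φ) inferInstance
  have hmem : ∀ j, crd i j - cst i (v j) ∈ p := fun j => by
    have h : (MvPolynomial.X j - MvPolynomial.C (v j) : MvPolynomial (Fin (n + 1)) k) ∈ p.comap Φ := by
      rw [hv, mem_vanishingIdeal_singleton_iff]; simp
    rw [Ideal.mem_comap, map_sub] at h
    simpa [Φ] using h
  have hvi : v i = 1 := by
    by_contra hne
    have h1 := hmem i
    rw [crd_self, ← map_one (cst (R := k) i), ← map_sub] at h1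
    exact hp.ne_top (Ideal.eq_top_of_isUnit_mem _ h1
      ((isUnit_iff_ne_zero.2 (sub_ne_zero.2 (Ne.symm hne))).map _))
  simp only [lin_sub_single]
  refine ⟨v, hvi, hmem, fun y hy => ?_⟩
  obtain ⟨a, rfl⟩ := chart_surjective i y
  let J := Ideal.span (Set.range fun j => crd i j - cst i (v j))
  have hh : (Ideal.Quotient.mk J).comp Φ =
      ((Ideal.Quotient.mk J).comp (cst (R := k) i)).comp (MvPolynomial.eval v) := by
    refine MvPolynomial.ringHom_ext (fun r => ?_) (fun j => ?_)
    · simp [Φ]
    · simp only [RingHom.comp_apply, Φ, eval₂Hom_X', eval_X]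
      exact Ideal.Quotient.eq.2 (Ideal.subset_span ⟨j, rfl⟩)
  have h2 := RingHom.congr_fun hh a
  have ha : MvPolynomial.eval v a = 0 := by
    have : a ∈ vanishingIdeal k ({v} : Set (Fin (n + 1) → k)) := hv ▸ (Ideal.mem_comap.2 hy)
    rw [mem_vanishingIdeal_singleton_iff] at this
    exact this
  simp only [RingHom.comp_apply, ha, map_zero] at h2
  exact Ideal.Quotient.eq_zero_iff_mem.1 h2

variable (k) in
/-- The chart of `x_i`. -/
abbrev chartOpen (i : Fin (n + 1)) : (CohB1.ProjSpace n k).Opens :=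
  Proj.basicOpen (CohB1.polyGrading n k) (X i)

/-- The linear form as a function on the chart. -/
def linSec (i : Fin (n + 1)) (c : Fin (n + 1) → k) : Γ(CohB1.ProjSpace n k, chartOpen k i) :=
  (Proj.awayToSection (CohB1.polyGrading n k) (X i)).hom (lin i c)

omit [IsAlgClosed k] in
lemma isAffineOpen_chartOpen (i : Fin (n + 1)) : IsAffineOpen (chartOpen k i) :=
  Proj.isAffineOpen_basicOpen _ _ (X_mem i) one_pos

omit [IsAlgClosed k] in
lemma awayToSection_bijective (i : Fin (n + 1)) :
    Function.Bijective (Proj.awayToSection (CohB1.polyGrading n k) (X i)).hom := by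
  have : IsIso (Proj.awayToSection (CohB1.polyGrading n k) (X i)) := by
    rw [← Proj.basicOpenIsoAway_hom (CohB1.polyGrading n k) (X i) (X_mem i) one_pos]; infer_instance
  exact (ConcreteCategory.isIso_iff_bijective _).1 this

omit [IsAlgClosed k] in
lemma germ_mem_maximalIdeal_iff {U : (CohB1.ProjSpace n k).Opens} (hU : IsAffineOpen U)
    {q : CohB1.ProjSpace n k} (hq : q ∈ U) (s : Γ(CohB1.ProjSpace n k, U)) :
    (CohB1.ProjSpace n k).presheaf.germ U q hq s ∈
        IsLocalRing.maximalIdeal ((CohB1.ProjSpace n k).presheaf.stalk q) ↔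
      s ∈ (hU.primeIdealOf ⟨q, hq⟩).asIdeal := by
  letI := (CohB1.ProjSpace n k).presheaf.algebra_section_stalk (⟨q, hq⟩ : U)
  haveI := hU.isLocalization_stalk ⟨q, hq⟩
  exact IsLocalization.AtPrime.to_map_mem_maximal_iff _ (hU.primeIdealOf ⟨q, hq⟩).asIdeal s

/-- At a closed point of a chart: the coordinates, and generation of the maximal ideal. -/
lemma exists_coord_germ (i : Fin (n + 1)) {q : CohB1.ProjSpace n k} (hq : IsClosed ({q} : Set (CohB1.ProjSpace n k)))
    (hqi : q ∈ chartOpen k i) :
    ∃ v : Fin (n + 1) → k, v i = 1 ∧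
      (∀ j, (CohB1.ProjSpace n k).presheaf.germ (chartOpen k i) q hqi
        (linSec i (Pi.single j 1 - v j • Pi.single i 1)) ∈
          IsLocalRing.maximalIdeal ((CohB1.ProjSpace n k).presheaf.stalk q)) ∧
      IsLocalRing.maximalIdeal ((CohB1.ProjSpace n k).presheaf.stalk q) ≤ Ideal.span (Set.range fun j =>
        (CohB1.ProjSpace n k).presheaf.germ (chartOpen k i) q hqi
          (linSec i (Pi.single j 1 - v j • Pi.single i 1))) := by
  have hU := isAffineOpen_chartOpen (k := k) i
  let P := (hU.primeIdealOf ⟨q, hqi⟩).asIdeal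
  haveI : P.IsMaximal := hU.primeIdealOf_isMaximal_of_isClosed ⟨q, hqi⟩ hq
  let φ := (Proj.awayToSection (CohB1.polyGrading n k) (X i)).hom
  have hb := awayToSection_bijective (k := k) i
  obtain ⟨v, hv1, hv2, hv3⟩ := exists_coord i (P.comap φ) (Ideal.comap_isMaximal_of_surjective φ hb.2)
  refine ⟨v, hv1, fun j => (germ_mem_maximalIdeal_iff hU hqi _).2 (hv2 j), ?_⟩
  letI := (CohB1.ProjSpace n k).presheaf.algebra_section_stalk (⟨q, hqi⟩ : chartOpen k i)
  haveI := hU.isLocalization_stalk ⟨q, hqi⟩
  rw [← IsLocalization.AtPrime.map_eq_maximalIdeal P ((CohB1.ProjSpace n k).presheaf.stalk q),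
    ← Ideal.map_comap_of_surjective φ hb.2 P, Ideal.map_map]
  refine (Ideal.map_mono hv3).trans ?_
  rw [Ideal.map_span, ← Set.range_comp]
  rfl

/-- Two closed points of a chart are separated by a linear form. -/
lemma exists_lin_separating (i : Fin (n + 1)) {q q' : CohB1.ProjSpace n k}
    (hq : IsClosed ({q} : Set (CohB1.ProjSpace n k))) (hqi : q ∈ chartOpen k i) (hq'i : q' ∈ chartOpen k i)
    (hne : q ≠ q') :
    ∃ c, (CohB1.ProjSpace n k).presheaf.germ (chartOpen k i) q hqi (linSec i c) ∈
        IsLocalRing.maximalIdeal ((CohB1.ProjSpace n k).presheaf.stalk q) ∧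
      (CohB1.ProjSpace n k).presheaf.germ (chartOpen k i) q' hq'i (linSec i c) ∉
        IsLocalRing.maximalIdeal ((CohB1.ProjSpace n k).presheaf.stalk q') := by
  have hU := isAffineOpen_chartOpen (k := k) i
  let P := (hU.primeIdealOf ⟨q, hqi⟩).asIdeal
  haveI : P.IsMaximal := hU.primeIdealOf_isMaximal_of_isClosed ⟨q, hqi⟩ hq
  let φ := (Proj.awayToSection (CohB1.polyGrading n k) (X i)).hom
  have hb := awayToSection_bijective (k := k) i
  obtain ⟨v, -, hv2, hv3⟩ := exists_coord i (P.comap φ) (Ideal.comap_isMaximal_of_surjective φ hb.2)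
  by_contra H
  push Not at H
  let P' := (hU.primeIdealOf ⟨q', hq'i⟩).asIdeal
  have hle : P.comap φ ≤ P'.comap φ := hv3.trans <| Ideal.span_le.2 fun _ ⟨j, hj⟩ => by
    subst hj
    exact (germ_mem_maximalIdeal_iff hU hq'i _).1 (H _ ((germ_mem_maximalIdeal_iff hU hqi _).2 (hv2 j)))
  have heq : P = P' := by
    refine Ideal.IsMaximal.eq_of_le ‹_› (hU.primeIdealOf ⟨q', hq'i⟩).2.ne_top fun y hy => ?_
    obtain ⟨z, rfl⟩ := hb.2 y
    exact hle hy
  apply hne
  have e : hU.primeIdealOf ⟨q, hqi⟩ = hU.primeIdealOf ⟨q', hq'i⟩ := PrimeSpectrum.ext heq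
  exact (hU.fromSpec_primeIdealOf ⟨q, hqi⟩).symm.trans
    ((congrArg (fun t => hU.fromSpec t) e).trans (hU.fromSpec_primeIdealOf _))

end Groth.Agent.SepPtTan
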