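import Mathlib.AlgebraicGeometry.ZariskisMainTheorem
import Mathlib.AlgebraicGeometry.AlgClosed.Basic
import Mathlib.RingTheory.Nakayama

/-!
# Closed immersion criterion for proper morphisms of schemes over an algebraically closed field
-/

set_option autoImplicit false
set_option backward.isDefEq.respectTransparency false
set_option backward.isDefEq.respectTransparency.types false
set_option linter.style.haveILetI false

universe u

open CategoryTheory AlgebraicGeometry TopologicalSpace Opposite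

namespace Groth.Agent.SepPtTan

/-- A finite map hitting every residue ring `B ⧸ pB` is surjective. -/
lemma surjective_of_maximal {A B : Type u} [CommRing A] [CommRing B] (φ : A →+* B) (hφ : φ.Finite)
    (h : ∀ p : Ideal A, p.IsMaximal → ∀ b : B, ∃ a, b - φ a ∈ p.map φ) : Function.Surjective φ := by
  letI := φ.toAlgebra
  haveI : Module.Finite A B := hφ
  let N : Submodule A B := LinearMap.range (Algebra.linearMap A B)
  suffices ∀ y : B ⧸ N, y = 0 by
    intro b
    obtain ⟨a, ha⟩ := (Submodule.Quotient.mk_eq_zero N).1 (this (Submodule.Quotient.mk b))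
    exact ⟨a, ha⟩
  intro y
  let I : Ideal A :=
    { carrier := {a | ∀ z : B ⧸ N, a • z = 0}
      add_mem' := fun {a b} ha hb z => by rw [add_smul, ha z, hb z, add_zero]
      zero_mem' := fun z => zero_smul A z
      smul_mem' := fun c a ha z => by rw [smul_eq_mul, mul_smul, ha z, smul_zero] }
  suffices hI : I = ⊤ by
    simpa using ((Ideal.eq_top_iff_one I).1 hI : ∀ z : B ⧸ N, (1 : A) • z = 0) y
  by_contra hI
  obtain ⟨p, hp, hle⟩ := Ideal.exists_le_maximal I hI
  have hle' : (⊤ : Submodule A (B ⧸ N)) ≤ p • (⊤ : Submodule A (B ⧸ N)) := by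
    rintro z -
    obtain ⟨b, rfl⟩ := Submodule.Quotient.mk_surjective N z
    obtain ⟨a, ha⟩ := h p hp b
    have h1 : b - φ a ∈ p • (⊤ : Submodule A B) := by
      rw [Ideal.smul_top_eq_map]; exact ha
    have h2 := Submodule.mem_map_of_mem (f := N.mkQ) h1
    rw [Submodule.map_smul'', Submodule.map_top, Submodule.range_mkQ, map_sub] at h2
    have h3 : N.mkQ (φ a) = 0 := (Submodule.Quotient.mk_eq_zero N).2 ⟨a, rfl⟩
    rwa [h3, sub_zero] at h2
  obtain ⟨r, hr1, hr2⟩ := Submodule.exists_sub_one_mem_and_smul_eq_zero_of_fg_of_le_smul p ⊤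
    Module.Finite.fg_top hle'
  have hr : r ∈ p := hle fun z => hr2 z trivial
  exact hp.ne_top ((Ideal.eq_top_iff_one p).2 (by simpa using p.sub_mem hr hr1))

/-- Residue fields of finite type algebras over an algebraically closed field. -/
lemma quotient_maximal_surjective {k B : Type u} [Field k] [IsAlgClosed k] [CommRing B] (ψ : k →+* B)
    (hψ : ψ.FiniteType) (q : Ideal B) [q.IsMaximal] : Function.Surjective ((Ideal.Quotient.mk q).comp ψ) := by
  letI := Ideal.Quotient.field q
  letI : Algebra k (B ⧸ q) := ((Ideal.Quotient.mk q).comp ψ).toAlgebra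
  haveI : Algebra.FiniteType k (B ⧸ q) :=
    RingHom.FiniteType.comp_surjective hψ Ideal.Quotient.mk_surjective
  haveI : Module.Finite k (B ⧸ q) := finite_of_finite_type_of_isJacobsonRing k (B ⧸ q)
  exact (IsAlgClosed.algebraMap_bijective_of_isIntegral (k := k) (K := B ⧸ q)).2

/-- A proper morphism injective on closed points and unramified there is a closed immersion. -/
theorem isClosedImmersion_of_closedPoints {k : Type u} [Field k] [IsAlgClosed k] {X Y : Scheme.{u}}
    (pY : Y ⟶ Spec (CommRingCat.of k)) [LocallyOfFiniteType pY] (f : X ⟶ Y) [IsProper f]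
    (hinj : ∀ P Q : X, IsClosed ({P} : Set X) → IsClosed ({Q} : Set X) → f P = f Q → P = Q)
    (hmax : ∀ P : X, IsClosed ({P} : Set X) →
      IsLocalRing.maximalIdeal (X.presheaf.stalk P) ≤
        (IsLocalRing.maximalIdeal (Y.presheaf.stalk (f P))).map (f.stalkMap P).hom) :
    IsClosedImmersion f := by
  let pX := f ≫ pY
  haveI : JacobsonSpace X := LocallyOfFiniteType.jacobsonSpace pX
  have hqf : f.quasiFiniteLocus = ⊤ := by
    by_contra hne
    have hnonempty : ((f.quasiFiniteLocus : Set X)ᶜ).Nonempty :=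
      Set.nonempty_compl.2 fun h => hne (SetLike.coe_injective h)
    obtain ⟨P, hP1, hP2⟩ :=
      nonempty_inter_closedPoints hnonempty f.quasiFiniteLocus.isOpen.isClosed_compl.isLocallyClosed
    apply hP1
    have hP : IsClosed ({P} : Set X) := hP2
    have hq : IsClosed ({f P} : Set Y) := by
      have := f.isClosedMap _ hP; rwa [Set.image_singleton] at this
    have hfib : f ⁻¹' {f P} ⊆ {P} := by
      intro x hx
      by_contra hxP
      obtain ⟨Q, hQ1, hQ2⟩ := nonempty_inter_closedPoints (Z := closure {x} \ {P})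
        ⟨x, subset_closure rfl, hxP⟩ (isClosed_closure.isLocallyClosed.inter hP.isOpen_compl.isLocallyClosed)
      refine hQ1.2 (hinj Q P hQ2 hP ?_)
      exact closure_minimal (Set.singleton_subset_iff.2 hx) (hq.preimage f.continuous) hQ1.1
    refine Scheme.Hom.quasiFiniteAt_iff_isOpen_singleton_asFiber.2 ?_
    haveI : Subsingleton (f.fiber (f P)) := by
      refine ⟨fun a b => (f.fiberHomeo (f P)).injective ?_⟩
      exact Subtype.ext ((hfib (f.fiberHomeo (f P) a).2).trans (hfib (f.fiberHomeo (f P) b).2).symm)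
    exact isOpen_discrete _
  haveI : LocallyQuasiFinite f := f.quasiFiniteLocus_eq_top_iff.1 hqf
  haveI : IsFinite f := IsFinite.of_isProper_of_locallyQuasiFinite f
  refine isClosedImmersion_iff_isAffineHom.2 ⟨inferInstance, fun U hU => ?_⟩
  have hV : IsAffineOpen (f ⁻¹ᵁ U) := hU.preimage f
  have hfin : (f.app U).hom.Finite := IsFinite.finite_app (f := f) U hU
  letI := (f.app U).hom.toAlgebra
  haveI : Module.Finite Γ(Y, U) Γ(X, f ⁻¹ᵁ U) := hfin
  haveI : Algebra.IsIntegral Γ(Y, U) Γ(X, f ⁻¹ᵁ U) := Algebra.IsIntegral.of_finite _ _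
  let γY : k →+* Γ(Y, U) :=
    (pY.appLE ⊤ U le_top).hom.comp (Scheme.ΓSpecIso (CommRingCat.of k)).inv.hom
  let γX : k →+* Γ(X, f ⁻¹ᵁ U) := (f.app U).hom.comp γY
  have hγY : γY.FiniteType := by
    refine RingHom.FiniteType.comp (pY.finiteType_appLE (isAffineOpen_top _) hU le_top) ?_
    exact RingHom.FiniteType.of_surjective _
      ((ConcreteCategory.isIso_iff_bijective (Scheme.ΓSpecIso (CommRingCat.of k)).inv).1 inferInstance).2
  have hγX : γX.FiniteType := RingHom.FiniteType.comp hfin.finiteType hγY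
  refine surjective_of_maximal (f.app U).hom hfin fun p hp b => ?_
  by_cases htop : p.map (f.app U).hom = ⊤
  · exact ⟨0, by rw [htop]; trivial⟩
  obtain ⟨q, hq, hqle⟩ := Ideal.exists_le_maximal _ htop
  have hcomap : ∀ q' : Ideal Γ(X, f ⁻¹ᵁ U), q'.IsMaximal → p.map (f.app U).hom ≤ q' →
      q'.comap (f.app U).hom = p := fun q' hq' h' =>
    (hp.eq_of_le (Ideal.comap_ne_top _ hq'.ne_top) (Ideal.map_le_iff_le_comap.1 h')).symm
  -- closed points of `X` attached to maximal ideals above `p`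
  have hpt : ∀ (q' : Ideal Γ(X, f ⁻¹ᵁ U)) (hq' : q'.IsMaximal), ∃ x : X, IsClosed ({x} : Set X) ∧
      ∃ hx : x ∈ f ⁻¹ᵁ U, (hV.primeIdealOf ⟨x, hx⟩).asIdeal = q' := by
    intro q' hq'
    let z : PrimeSpectrum Γ(X, f ⁻¹ᵁ U) := ⟨q', hq'.isPrime⟩
    have hx : hV.fromSpec z ∈ f ⁻¹ᵁ U := by
      rw [← SetLike.mem_coe, ← hV.range_fromSpec]; exact Set.mem_range_self _
    refine ⟨hV.fromSpec z, ?_, hx, ?_⟩
    · have hz : z ∈ hV.fromSpec ⁻¹' closedPoints X := by
        rw [hV.fromSpec.isOpenEmbedding.preimage_closedPoints]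
        exact (PrimeSpectrum.isClosed_singleton_iff_isMaximal z).2 hq'
      exact hz
    · exact congrArg PrimeSpectrum.asIdeal (hV.fromSpec.isOpenEmbedding.injective
        (hV.fromSpec_primeIdealOf ⟨hV.fromSpec z, hx⟩))
  have huniq : ∀ q' : Ideal Γ(X, f ⁻¹ᵁ U), q'.IsMaximal → p.map (f.app U).hom ≤ q' → q' = q := by
    intro q' hq' h'
    obtain ⟨x', hx'c, hx', rfl⟩ := hpt q' hq'
    obtain ⟨x, hxc, hx, rfl⟩ := hpt q hq
    suffices x' = x by subst this; rfl
    refine hinj x' x hx'c hxc ?_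
    have e1 := IsAffineOpen.comap_primeIdealOf_appLE (f := f) (x := x') U hU (f ⁻¹ᵁ U) hV le_rfl hx'
    have e2 := IsAffineOpen.comap_primeIdealOf_appLE (f := f) (x := x) U hU (f ⁻¹ᵁ U) hV le_rfl hx
    rw [← Scheme.Hom.app_eq_appLE] at e1 e2
    have e3 : hU.primeIdealOf ⟨f x', hx'⟩ = hU.primeIdealOf ⟨f x, hx⟩ := by
      rw [← e1, ← e2]
      exact PrimeSpectrum.ext ((hcomap _ hq' h').trans (hcomap _ hq hqle).symm)
    exact (hU.fromSpec_primeIdealOf ⟨f x', hx'⟩).symm.trans
      ((congrArg (fun t => hU.fromSpec t) e3).trans (hU.fromSpec_primeIdealOf _))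
  obtain ⟨x, hxc, hx, hxq⟩ := hpt q hq
  have hqeq : q ≤ p.map (f.app U).hom := by
    intro y hy
    letI := X.presheaf.algebra_section_stalk (⟨x, hx⟩ : (f ⁻¹ᵁ U : X.Opens))
    haveI := hV.isLocalization_stalk ⟨x, hx⟩
    have hpU : (hU.primeIdealOf ⟨f x, hx⟩).asIdeal = p := by
      have e := IsAffineOpen.comap_primeIdealOf_appLE (f := f) (x := x) U hU (f ⁻¹ᵁ U) hV le_rfl hx
      rw [← Scheme.Hom.app_eq_appLE] at e
      rw [← e]
      show (hV.primeIdealOf ⟨x, hx⟩).asIdeal.comap (f.app U).hom = p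
      rw [hxq]; exact hcomap q hq hqle
    have hmY : IsLocalRing.maximalIdeal (Y.presheaf.stalk (f x)) = p.map (Y.presheaf.germ U (f x) hx).hom := by
      letI := Y.presheaf.algebra_section_stalk (⟨f x, hx⟩ : U)
      haveI := hU.isLocalization_stalk ⟨f x, hx⟩
      rw [← hpU]
      exact (IsLocalization.AtPrime.map_eq_maximalIdeal _ _).symm
    have hym : (X.presheaf.germ (f ⁻¹ᵁ U) x hx).hom y ∈ IsLocalRing.maximalIdeal (X.presheaf.stalk x) :=
      (IsLocalization.AtPrime.to_map_mem_maximal_iff _ (hV.primeIdealOf ⟨x, hx⟩).asIdeal y).2 (hxq ▸ hy)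
    have hy2 := hmax x hxc hym
    rw [hmY, Ideal.map_map] at hy2
    have hcomp : ((f.stalkMap x).hom).comp (Y.presheaf.germ U (f x) hx).hom =
        (X.presheaf.germ (f ⁻¹ᵁ U) x hx).hom.comp (f.app U).hom :=
      RingHom.ext fun a => Scheme.Hom.germ_stalkMap_apply f U x hx a
    rw [hcomp, ← Ideal.map_map] at hy2
    obtain ⟨s, hs, hsy⟩ :=
      (IsLocalization.algebraMap_mem_map_algebraMap_iff (hV.primeIdealOf ⟨x, hx⟩).asIdeal.primeCompl
        (X.presheaf.stalk x) (p.map (f.app U).hom) y).1 hy2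
    let C : Ideal Γ(X, f ⁻¹ᵁ U) := Submodule.comap (LinearMap.mulRight Γ(X, f ⁻¹ᵁ U) y) (p.map (f.app U).hom)
    suffices C = ⊤ by simpa [C] using (Ideal.eq_top_iff_one C).1 this
    by_contra hC
    obtain ⟨q', hq', hle'⟩ := Ideal.exists_le_maximal C hC
    have := huniq q' hq' fun a ha => hle' (show a * y ∈ p.map (f.app U).hom from Ideal.mul_mem_right _ _ ha)
    subst this
    exact hs (hxq ▸ hle' (show s * y ∈ p.map (f.app U).hom from hsy))
  obtain ⟨c, hc⟩ := quotient_maximal_surjective γX hγX q (Ideal.Quotient.mk q b)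
  exact ⟨γY c, hqeq (Ideal.Quotient.eq.1 hc.symm)⟩

end Groth.Agent.SepPtTan
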