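import Groth.Agent.SepPtTan.Pull
import Groth.Agent.SepPtTan.Criterion
import Groth.Agent.PnCoh.Chow.Proper

/-!
# A morphism to projective space is a closed immersion iff it separates points and tangent vectors
-/

set_option autoImplicit false
set_option backward.isDefEq.respectTransparency false
set_option backward.isDefEq.respectTransparency.types false
set_option linter.style.haveILetI false

universe u

open CategoryTheory AlgebraicGeometry TopologicalSpace Opposite
open Groth.Agent.ProjPt

noncomputable section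

namespace Groth.Agent.SepPtTan

variable {k : Type u} [Field k] {n : ℕ} {X : Scheme.{u}} (pX : X ⟶ Spec (CommRingCat.of k))
  (f : X ⟶ CohB1.ProjSpace n k) (hf : f ≫ CohB1.ProjSpace.toSpec n k = pX)

lemma lin_sub_smul (l : Fin (n + 1)) (a b : Fin (n + 1) → k) (r : k) :
    lin l (a - r • b) = lin l a - cst l r * lin l b := by
  simp only [lin, Pi.sub_apply, Pi.smul_apply, smul_eq_mul, map_sub, map_mul, sub_mul,
    Finset.sum_sub_distrib, Finset.mul_sum, mul_assoc]

theorem isProper_of_projective {N : ℕ} (ι : X ⟶ CohB1.ProjSpace N k) (hι : IsClosedImmersion ι)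
    (h : ι ≫ CohB1.ProjSpace.toSpec N k = pX) : IsProper pX := by
  haveI := PnCoh.Chow.isProper_toSpec N k
  subst h
  infer_instance

variable [IsAlgClosed k]

include hf in
/-- A closed immersion separates points, in the ordered sense. -/
theorem separates_points [IsClosedImmersion f] (P Q : X) (hP : IsClosed ({P} : Set X)) (hne : P ≠ Q) :
    ∃ c : Fin (n + 1) → k,
      ((O1pull f).presheaf.germ ⊤ P trivial).hom (sigma pX f c) ∈
          IsLocalRing.maximalIdeal (X.presheaf.stalk P) •
            (⊤ : Submodule (X.presheaf.stalk P) ((O1pull f).presheaf.stalk P)) ∧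
        ((O1pull f).presheaf.germ ⊤ Q trivial).hom (sigma pX f c) ∉
          IsLocalRing.maximalIdeal (X.presheaf.stalk Q) •
            (⊤ : Submodule (X.presheaf.stalk Q) ((O1pull f).presheaf.stalk Q)) := by
  classical
  have hq : IsClosed ({f P} : Set (CohB1.ProjSpace n k)) := by
    have := f.isClosedEmbedding.isClosedMap _ hP; rwa [Set.image_singleton] at this
  have hne' : f P ≠ f Q := fun h => hne (f.isClosedEmbedding.injective h)
  obtain ⟨i, hi⟩ := ProjUPX.cov_X (f P)
  by_cases hQi : f Q ∈ chartOpen k i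
  · obtain ⟨c, h1, h2⟩ := exists_lin_separating i hq hi hQi hne'
    exact ⟨c, (sigma_mem_iff pX f hf i c P hi).2 h1, fun h => h2 ((sigma_mem_iff pX f hf i c Q hQi).1 h)⟩
  · obtain ⟨l, hl⟩ := ProjUPX.cov_X (f Q)
    obtain ⟨v, -, hv2, -⟩ := exists_coord_germ i hq hi
    refine ⟨Pi.single l 1 - v l • Pi.single i 1, (sigma_mem_iff pX f hf i _ P hi).2 (hv2 l), fun h => ?_⟩
    have h1 := (sigma_mem_iff pX f hf l _ Q hl).1 h
    have h2 := (sigma_mem_iff pX f hf l _ Q hl).1 ((sigma_single_mem_iff pX f hf i Q).2 hQi)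
    have h3 : ¬ _ := fun h' => (sigma_single_mem_iff pX f hf l Q).1 ((sigma_mem_iff pX f hf l _ Q hl).2 h') hl
    apply h3
    rw [linSec, lin_sub_smul, map_sub, map_sub, map_mul, map_mul] at h1
    have := Ideal.add_mem _ h1 (Ideal.mul_mem_left _
      (((CohB1.ProjSpace n k).presheaf.germ (chartOpen k l) (f Q) hl).hom
        ((Proj.awayToSection (CohB1.polyGrading n k) (MvPolynomial.X l)).hom (cst l (v l)))) h2)
    simp only [linSec] at this ⊢
    rwa [sub_add_cancel] at this

include hf in
/-- A closed immersion separates tangent vectors. -/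
theorem separates_tangents [IsClosedImmersion f] (P : X) (hP : IsClosed ({P} : Set X)) :
    (IsLocalRing.maximalIdeal (X.presheaf.stalk P) •
        (⊤ : Submodule (X.presheaf.stalk P) ((O1pull f).presheaf.stalk P))) ≤
      Submodule.span (X.presheaf.stalk P)
          {v | ∃ c : Fin (n + 1) → k, v = ((O1pull f).presheaf.germ ⊤ P trivial).hom (sigma pX f c) ∧
            v ∈ (IsLocalRing.maximalIdeal (X.presheaf.stalk P) •
              (⊤ : Submodule (X.presheaf.stalk P) ((O1pull f).presheaf.stalk P)))} ⊔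
        (IsLocalRing.maximalIdeal (X.presheaf.stalk P) ^ 2 •
          (⊤ : Submodule (X.presheaf.stalk P) ((O1pull f).presheaf.stalk P))) := by
  have hq : IsClosed ({f P} : Set (CohB1.ProjSpace n k)) := by
    have := f.isClosedEmbedding.isClosedMap _ hP; rwa [Set.image_singleton] at this
  obtain ⟨i, hi⟩ := ProjUPX.cov_X (f P)
  obtain ⟨v, -, hv2, hv3⟩ := exists_coord_germ i hq hi
  refine le_trans ?_ le_sup_left
  intro x hx
  obtain ⟨a, rfl⟩ := Submodule.mem_span_singleton.1 ((isGen_eps f i P hi).1.ge (Submodule.mem_top : x ∈ ⊤))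
  have ha := (smul_mem_iff f (isGen_eps f i P hi) _ a).1 hx
  obtain ⟨b, rfl⟩ := SurjectiveOnStalks.stalkMap_surjective f P a
  have hb : b ∈ IsLocalRing.maximalIdeal ((CohB1.ProjSpace n k).presheaf.stalk (f P)) := by
    rw [IsLocalRing.mem_maximalIdeal, mem_nonunits_iff] at ha ⊢
    exact fun hu => ha (hu.map (f.stalkMap P).hom)
  let N := Submodule.span (X.presheaf.stalk P)
    {w | ∃ c : Fin (n + 1) → k, w = ((O1pull f).presheaf.germ ⊤ P trivial).hom (sigma pX f c) ∧
      w ∈ (IsLocalRing.maximalIdeal (X.presheaf.stalk P) •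
        (⊤ : Submodule (X.presheaf.stalk P) ((O1pull f).presheaf.stalk P)))}
  let J : Ideal (X.presheaf.stalk P) := N.comap (LinearMap.toSpanSingleton _ _ (eps f i P))
  refine (?_ : IsLocalRing.maximalIdeal ((CohB1.ProjSpace n k).presheaf.stalk (f P)) ≤
    J.comap (f.stalkMap P).hom) hb
  refine hv3.trans (Ideal.span_le.2 ?_)
  rintro _ ⟨j, rfl⟩
  refine Submodule.subset_span ⟨Pi.single j 1 - v j • Pi.single i 1, ?_, ?_⟩
  · exact (germ_sigma pX f hf i _ P hi).symm
  · have h := (sigma_mem_iff pX f hf i _ P hi).2 (hv2 j)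
    rwa [germ_sigma pX f hf i _ P hi] at h

include hf in
/-- The converse. -/
theorem isClosedImmersion_of_separates [IsProper pX]
    (hsep : ∀ P Q : X, IsClosed ({P} : Set X) → IsClosed ({Q} : Set X) → P ≠ Q →
      ∃ c : Fin (n + 1) → k,
        (((O1pull f).presheaf.germ ⊤ P trivial).hom (sigma pX f c) ∈
            IsLocalRing.maximalIdeal (X.presheaf.stalk P) •
              (⊤ : Submodule (X.presheaf.stalk P) ((O1pull f).presheaf.stalk P)) ∧
          ((O1pull f).presheaf.germ ⊤ Q trivial).hom (sigma pX f c) ∉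
            IsLocalRing.maximalIdeal (X.presheaf.stalk Q) •
              (⊤ : Submodule (X.presheaf.stalk Q) ((O1pull f).presheaf.stalk Q))) ∨
        (((O1pull f).presheaf.germ ⊤ Q trivial).hom (sigma pX f c) ∈
            IsLocalRing.maximalIdeal (X.presheaf.stalk Q) •
              (⊤ : Submodule (X.presheaf.stalk Q) ((O1pull f).presheaf.stalk Q)) ∧
          ((O1pull f).presheaf.germ ⊤ P trivial).hom (sigma pX f c) ∉
            IsLocalRing.maximalIdeal (X.presheaf.stalk P) •
              (⊤ : Submodule (X.presheaf.stalk P) ((O1pull f).presheaf.stalk P))))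
    (htan : ∀ P : X, IsClosed ({P} : Set X) →
      (IsLocalRing.maximalIdeal (X.presheaf.stalk P) •
          (⊤ : Submodule (X.presheaf.stalk P) ((O1pull f).presheaf.stalk P))) ≤
        Submodule.span (X.presheaf.stalk P)
            {v | ∃ c : Fin (n + 1) → k, v = ((O1pull f).presheaf.germ ⊤ P trivial).hom (sigma pX f c) ∧
              v ∈ (IsLocalRing.maximalIdeal (X.presheaf.stalk P) •
                (⊤ : Submodule (X.presheaf.stalk P) ((O1pull f).presheaf.stalk P)))} ⊔
          (IsLocalRing.maximalIdeal (X.presheaf.stalk P) ^ 2 •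
            (⊤ : Submodule (X.presheaf.stalk P) ((O1pull f).presheaf.stalk P)))) :
    IsClosedImmersion f := by
  haveI := PnCoh.Chow.isProper_toSpec n k
  haveI : IsProper (f ≫ CohB1.ProjSpace.toSpec n k) := hf ▸ inferInstance
  haveI : IsProper f := .of_comp f (CohB1.ProjSpace.toSpec n k)
  haveI : IsLocallyNoetherian X := LocallyOfFiniteType.isLocallyNoetherian pX
  refine isClosedImmersion_of_closedPoints (CohB1.ProjSpace.toSpec n k) f (fun P Q hP hQ hPQ => ?_)
    (fun P hP => ?_)
  · by_contra hne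
    obtain ⟨c, hc⟩ := hsep P Q hP hQ hne
    obtain ⟨i, hi⟩ := ProjUPX.cov_X (f P)
    have hi' : f Q ∈ chartOpen k i := hPQ ▸ hi
    have key : ∀ (q : CohB1.ProjSpace n k) (_ : f P = q) (hq : q ∈ chartOpen k i),
        ((CohB1.ProjSpace n k).presheaf.germ (chartOpen k i) (f P) hi (linSec i c) ∈
          IsLocalRing.maximalIdeal ((CohB1.ProjSpace n k).presheaf.stalk (f P))) ↔
        ((CohB1.ProjSpace n k).presheaf.germ (chartOpen k i) q hq (linSec i c) ∈
          IsLocalRing.maximalIdeal ((CohB1.ProjSpace n k).presheaf.stalk q)) := by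
      rintro q rfl hq; exact Iff.rfl
    rw [sigma_mem_iff pX f hf i c P hi, sigma_mem_iff pX f hf i c Q hi', key _ hPQ hi'] at hc
    rcases hc with ⟨h1, h2⟩ | ⟨h1, h2⟩ <;> exact h2 h1
  · obtain ⟨i, hi⟩ := ProjUPX.cov_X (f P)
    have hgen := isGen_eps f i P hi
    let J := (IsLocalRing.maximalIdeal ((CohB1.ProjSpace n k).presheaf.stalk (f P))).map (f.stalkMap P).hom
    refine Submodule.le_of_le_smul_of_le_jacobson_bot (IsNoetherian.noetherian _)
      (IsLocalRing.maximalIdeal_le_jacobson ⊥) (fun a ha => ?_)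
    have h1 := htan P hP ((smul_mem_iff f hgen _ a).2 ha)
    have h2 : a • eps f i P ∈ (J ⊔ IsLocalRing.maximalIdeal (X.presheaf.stalk P) ^ 2) •
        (⊤ : Submodule (X.presheaf.stalk P) ((O1pull f).presheaf.stalk P)) := by
      rw [Submodule.sup_smul]
      refine (show _ ≤ _ from sup_le_sup (α := Submodule (X.presheaf.stalk P) ((O1pull f).presheaf.stalk P)) (Submodule.span_le.2 ?_) le_rfl) h1
      rintro _ ⟨c, rfl, hc⟩
      have hc' := (sigma_mem_iff pX f hf i c P hi).1 hc
      rw [SetLike.mem_coe, germ_sigma pX f hf i c P hi]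
      exact Submodule.smul_mem_smul (Ideal.mem_map_of_mem _ hc') trivial
    have h3 := (smul_mem_iff f hgen _ a).1 h2
    rwa [pow_two, ← smul_eq_mul] at h3

end Groth.Agent.SepPtTan
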