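import Groth.Agent.SepPtTan.Coord
import Groth.Agent.ProjUPX.Unique
import Groth.Agent.H23.RatSec

/-!
# The germs of the pulled back linear forms
-/

set_option autoImplicit false
set_option backward.isDefEq.respectTransparency false
set_option backward.isDefEq.respectTransparency.types false
set_option linter.style.haveILetI false

universe u

open CategoryTheory AlgebraicGeometry TopologicalSpace Opposite HomogeneousLocalization MvPolynomial
open Groth.Agent.ProjPt Groth.Agent.AModX

noncomputable section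

namespace Groth.Agent.SepPtTan

variable {k : Type u} [Field k] {n : ℕ} {X : Scheme.{u}} (pX : X ⟶ Spec (CommRingCat.of k))
  (f : X ⟶ CohB1.ProjSpace n k) (hf : f ≫ CohB1.ProjSpace.toSpec n k = pX)

/-- The pullback of `O(1)`. -/
abbrev O1pull : X.Modules := (Scheme.Modules.pullback f).obj (Twist.twistProjSpace n k 1)

/-- The combination of the pulled back coordinates. -/
abbrev sigma (c : Fin (n + 1) → k) : ProjUP.Γm (O1pull f) :=
  ∑ i, ProjUP.toGlobal pX (c i) • ProjUP.pullSec f (Twist.twistProjSpace n k 1) (ProjUP.coord n k i)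

include hf in
/-- Constants in a chart. -/
lemma resR_toGlobal (i : Fin (n + 1)) (a : k) :
    resR (le_top : f ⁻¹ᵁ chartOpen k i ≤ ⊤) (ProjUP.toGlobal pX a) =
      f.app (chartOpen k i) ((Proj.awayToSection (CohB1.polyGrading n k) (MvPolynomial.X i)).hom (cst i a)) := by
  let 𝒜 := CohB1.polyGrading n k
  let V := chartOpen (n := n) k i
  let ht : (MvPolynomial.X i : MvPolynomial (Fin (n + 1)) k) ∈ 𝒜 1 := X_mem i
  let w : Proj 𝒜 ⟶ Spec (CommRingCat.of k) := Proj.toSpecZero 𝒜 ≫ Spec.map (CommRingCat.ofHom (algebraMap k (𝒜 0)))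
  have hw : resR (le_top : V ≤ ⊤) (w.appTop ((Scheme.ΓSpecIso (CommRingCat.of k)).inv a)) =
      (Proj.awayToSection 𝒜 (MvPolynomial.X i)).hom (fromZeroRingHom 𝒜 _ (algebraMap k (𝒜 0) a)) := by
    have hc : Proj.awayι 𝒜 (MvPolynomial.X i) ht one_pos ≫ w = Spec.map (CommRingCat.ofHom
        ((fromZeroRingHom 𝒜 (Submonoid.powers (MvPolynomial.X i))).comp (algebraMap k (𝒜 0)))) := by
      simp only [w, Proj.awayι_toSpecZero_assoc, ← Spec.map_comp, ← CommRingCat.ofHom_comp]
    have e1 : (⊤ : (Spec (CommRingCat.of (Away 𝒜 (MvPolynomial.X i)))).Opens) ≤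
        Proj.awayι 𝒜 (MvPolynomial.X i) ht one_pos ⁻¹ᵁ V := by
      show _ ≤ _ ⁻¹ᵁ Proj.basicOpen 𝒜 (MvPolynomial.X i)
      rw [← Proj.opensRange_awayι 𝒜 (MvPolynomial.X i) ht one_pos, Scheme.Hom.preimage_opensRange]
    have hinj : Function.Injective ((Proj.awayι 𝒜 (MvPolynomial.X i) ht one_pos).appLE V ⊤ e1) := by
      have hcomp := ProjPt.awayι_appLE 𝒜 ht one_pos e1
      have : IsIso (Proj.awayToSection 𝒜 (MvPolynomial.X i)) := by
        rw [← Proj.basicOpenIsoAway_hom 𝒜 (MvPolynomial.X i) ht one_pos]; infer_instance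
      have : IsIso ((Proj.awayι 𝒜 (MvPolynomial.X i) ht one_pos).appLE V ⊤ e1) := by
        have : IsIso (Proj.awayToSection 𝒜 (MvPolynomial.X i) ≫
            (Proj.awayι 𝒜 (MvPolynomial.X i) ht one_pos).appLE V ⊤ e1) := by rw [hcomp]; infer_instance
        exact IsIso.of_isIso_comp_left (Proj.awayToSection 𝒜 (MvPolynomial.X i)) _
      exact ((ConcreteCategory.isIso_iff_bijective _).1 this).1
    apply hinj
    rw [← CommRingCat.comp_apply (Proj.awayToSection 𝒜 (MvPolynomial.X i)), ProjPt.awayι_appLE 𝒜 ht one_pos e1]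
    refine (ConcreteCategory.congr_hom (Scheme.Hom.map_appLE _ e1 (homOfLE le_top).op) _).trans ?_
    rw [← CommRingCat.comp_apply w.appTop, show (Proj.awayι 𝒜 (MvPolynomial.X i) ht one_pos).appLE ⊤ ⊤ le_top =
      (Proj.awayι 𝒜 (MvPolynomial.X i) ht one_pos).appTop from (Scheme.Hom.app_eq_appLE _ (U := ⊤)).symm,
      ← Scheme.Hom.comp_appTop, hc]
    exact (ConcreteCategory.congr_hom (Scheme.ΓSpecIso_inv_naturality (CommRingCat.ofHom
      ((fromZeroRingHom 𝒜 (Submonoid.powers (MvPolynomial.X i))).comp (algebraMap k (𝒜 0))))) a).symm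
  have h1 : ProjUP.toGlobal pX a = f.appTop (w.appTop ((Scheme.ΓSpecIso (CommRingCat.of k)).inv a)) := by
    subst hf; rfl
  rw [h1]
  refine Eq.trans ?_ (congrArg (f.app (chartOpen k i)) hw)
  exact (ConcreteCategory.congr_hom (f.naturality (homOfLE le_top).op) _).symm

/-- The generator of the stalk of the pullback of `O(1)` over a chart. -/
abbrev eps (i : Fin (n + 1)) (x : X) : (O1pull f).presheaf.stalk x :=
  ((O1pull f).presheaf.germ ⊤ x trivial).hom
    (ProjUP.pullSec f (Twist.twistProjSpace n k 1) (ProjUP.coord n k i))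

lemma isGen_eps (i : Fin (n + 1)) (x : X) (hx : f x ∈ chartOpen k i) :
    H23.RatSec.IsGen (eps f i x) := by
  have h := H23.RatSec.isGen_germ (ProjUPX.isFrame_pullG (𝒜 := CohB1.polyGrading n k) f (X_mem i)) x hx
  have e : eps f i x = ((O1pull f).presheaf.germ (f ⁻¹ᵁ chartOpen k i) x hx).hom
      (res _ (le_top : f ⁻¹ᵁ chartOpen k i ≤ ⊤) (ProjUPX.pullG (𝒜 := CohB1.polyGrading n k) f (X_mem i))) :=
    ((O1pull f).presheaf.germ_res_apply (homOfLE le_top) x hx _).symm
  exact e ▸ h

include hf in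
lemma res_sigma (i : Fin (n + 1)) (c : Fin (n + 1) → k) :
    res (O1pull f) (le_top : f ⁻¹ᵁ chartOpen k i ≤ ⊤) (sigma pX f c) =
      f.app (chartOpen k i) (linSec i c) •
        res (O1pull f) (le_top : f ⁻¹ᵁ chartOpen k i ≤ ⊤)
          (ProjUP.pullSec f (Twist.twistProjSpace n k 1) (ProjUP.coord n k i)) := by
  have h : ∀ j, res (O1pull f) (le_top : f ⁻¹ᵁ chartOpen k i ≤ ⊤)
      (ProjUP.toGlobal pX (c j) • ProjUP.pullSec f (Twist.twistProjSpace n k 1) (ProjUP.coord n k j)) =
      f.app (chartOpen k i) ((Proj.awayToSection (CohB1.polyGrading n k) (MvPolynomial.X i)).hom (cst i (c j) * crd i j)) •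
        res (O1pull f) (le_top : f ⁻¹ᵁ chartOpen k i ≤ ⊤)
          (ProjUP.pullSec f (Twist.twistProjSpace n k 1) (ProjUP.coord n k i)) := fun j => by
    rw [res_smul, resR_toGlobal pX f hf i (c j), map_mul, map_mul, mul_smul]
    refine congrArg _ ((ProjUPX.res_pullG (𝒜 := CohB1.polyGrading n k) f (X_mem j) (X_mem i)
      (le_refl (f ⁻¹ᵁ chartOpen k i))).trans ?_)
    refine congrArg₂ _ ?_ rfl
    rw [ProjUPX.ratioOf, ← Scheme.Hom.app_eq_appLE]
    rfl
  rw [linSec, lin]
  refine ((map_sum (res (O1pull f) (le_top : f ⁻¹ᵁ chartOpen k i ≤ ⊤))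
    (fun j => ProjUP.toGlobal pX (c j) • ProjUP.pullSec f (Twist.twistProjSpace n k 1) (ProjUP.coord n k j))
    Finset.univ).trans (Finset.sum_congr rfl fun j _ => h j)).trans ?_
  rw [← Finset.sum_smul]
  exact congrArg₂ _ (((map_sum (f.app (chartOpen k i)).hom _ _).symm).trans
    (congrArg _ (map_sum (Proj.awayToSection (CohB1.polyGrading n k) (MvPolynomial.X i)).hom _ _).symm)) rfl

include hf in
lemma germ_sigma (i : Fin (n + 1)) (c : Fin (n + 1) → k) (x : X) (hx : f x ∈ chartOpen k i) :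
    ((O1pull f).presheaf.germ ⊤ x trivial).hom (sigma pX f c) =
      (f.stalkMap x).hom ((CohB1.ProjSpace n k).presheaf.germ (chartOpen k i) (f x) hx (linSec i c)) •
        eps f i x := by
  rw [show ((O1pull f).presheaf.germ ⊤ x trivial).hom (sigma pX f c) =
      ((O1pull f).presheaf.germ (f ⁻¹ᵁ chartOpen k i) x hx).hom (res _ le_top (sigma pX f c)) from
    ((O1pull f).presheaf.germ_res_apply (homOfLE le_top) x hx _).symm, res_sigma pX f hf i c]
  refine (QCoh.germ_smul' (O1pull f) hx _ _).trans (congrArg₂ _ ?_ ?_)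
  · exact (Scheme.Hom.germ_stalkMap_apply f (chartOpen k i) x hx (linSec i c)).symm
  · exact (O1pull f).presheaf.germ_res_apply (homOfLE le_top) x hx _

lemma smul_mem_iff {x : X} {t : (O1pull f).presheaf.stalk x} (ht : H23.RatSec.IsGen t)
    (I : Ideal (X.presheaf.stalk x)) (a : X.presheaf.stalk x) :
    a • t ∈ I • (⊤ : Submodule (X.presheaf.stalk x) ((O1pull f).presheaf.stalk x)) ↔ a ∈ I := by
  rw [← ht.1, Submodule.mem_smul_span_singleton]
  refine ⟨fun ⟨y, hy, hya⟩ => ?_, fun ha => ⟨a, ha, rfl⟩⟩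
  have := ht.2 (y - a) (by rw [sub_smul, hya, sub_self])
  rwa [← sub_eq_zero.1 this]

include hf in
/-- Vanishing of a linear form at a point is vanishing in the chart. -/
lemma sigma_mem_iff (i : Fin (n + 1)) (c : Fin (n + 1) → k) (x : X) (hx : f x ∈ chartOpen k i) :
    ((O1pull f).presheaf.germ ⊤ x trivial).hom (sigma pX f c) ∈
        IsLocalRing.maximalIdeal (X.presheaf.stalk x) •
          (⊤ : Submodule (X.presheaf.stalk x) ((O1pull f).presheaf.stalk x)) ↔
      (CohB1.ProjSpace n k).presheaf.germ (chartOpen k i) (f x) hx (linSec i c) ∈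
        IsLocalRing.maximalIdeal ((CohB1.ProjSpace n k).presheaf.stalk (f x)) := by
  rw [germ_sigma pX f hf i c x hx, smul_mem_iff f (isGen_eps f i x hx)]
  simp only [IsLocalRing.mem_maximalIdeal, mem_nonunits_iff]
  exact not_congr (isUnit_map_iff (f.stalkMap x).hom _)

include hf in
/-- A coordinate vanishes exactly off its chart. -/
lemma sigma_single_mem_iff (i : Fin (n + 1)) (x : X) :
    ((O1pull f).presheaf.germ ⊤ x trivial).hom (sigma pX f (Pi.single i 1)) ∈
        IsLocalRing.maximalIdeal (X.presheaf.stalk x) •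
          (⊤ : Submodule (X.presheaf.stalk x) ((O1pull f).presheaf.stalk x)) ↔
      f x ∉ chartOpen k i := by
  classical
  obtain ⟨l, hl⟩ := ProjUPX.cov_X (f x)
  have hsec : linSec (n := n) l (Pi.single i (1 : k)) =
      (Proj.awayToSection (CohB1.polyGrading n k) (MvPolynomial.X l)).hom (crd l i) := by
    rw [linSec, lin]
    rw [Finset.sum_eq_single i (fun b _ hb => by rw [Pi.single_eq_of_ne hb, map_zero, zero_mul]) (by simp),
      Pi.single_eq_same, map_one, one_mul]
  have hstalk : ∀ hx : f x ∈ chartOpen k l,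
      (f.stalkMap x).hom ((CohB1.ProjSpace n k).presheaf.germ (chartOpen k l) (f x) hx
        (linSec l (Pi.single i 1))) =
      (X.presheaf.germ (f ⁻¹ᵁ chartOpen k l) x hx).hom
        (ProjUPX.ratioOf (𝒜 := CohB1.polyGrading n k) f (X_mem i) (X_mem l) le_rfl) := fun hx => by
    rw [hsec, ProjUPX.ratioOf, ← Scheme.Hom.app_eq_appLE]
    exact Scheme.Hom.germ_stalkMap_apply f (chartOpen k l) x hx _
  rw [germ_sigma pX f hf l _ x hl, smul_mem_iff f (isGen_eps f l x hl), hstalk hl,
    IsLocalRing.mem_maximalIdeal, mem_nonunits_iff]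
  constructor
  · intro hu hxi
    have hgen := isGen_eps f i x hxi
    obtain ⟨a, ha⟩ := Submodule.mem_span_singleton.1 (hgen.1.ge (Submodule.mem_top : eps f l x ∈ ⊤))
    apply hu
    refine IsUnit.of_mul_eq_one a ?_
    have h1 := germ_sigma pX f hf l (Pi.single i 1) x hl
    rw [hstalk hl] at h1
    have h2 : ((O1pull f).presheaf.germ ⊤ x trivial).hom (sigma pX f (Pi.single i 1)) = eps f i x := by
      rw [eps]; congr 1
      simp only [sigma]
      rw [Finset.sum_eq_single i (fun b _ hb => by rw [Pi.single_eq_of_ne hb, map_zero, zero_smul]) (by simp),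
        Pi.single_eq_same, map_one, one_smul]
    rw [h2, ← ha, ← mul_smul] at h1
    exact (sub_eq_zero.1 (hgen.2 _ (by rw [sub_smul, one_smul, ← h1, sub_self]))).symm
  · intro hxi hu
    apply hxi
    let W := X.basicOpen (ProjUPX.ratioOf (𝒜 := CohB1.polyGrading n k) f (X_mem i) (X_mem l)
      (le_refl (f ⁻¹ᵁ chartOpen k l)))
    have hW : W ≤ f ⁻¹ᵁ chartOpen k l := X.basicOpen_le _
    refine ProjUPX.le_preimage_of_isUnit (𝒜 := CohB1.polyGrading n k) f (X_mem i) (X_mem l) hW ?_
      ((X.mem_basicOpen _ x hl).2 hu : x ∈ W)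
    rw [show ProjUPX.ratioOf (𝒜 := CohB1.polyGrading n k) f (X_mem i) (X_mem l) hW =
        resR hW (ProjUPX.ratioOf (𝒜 := CohB1.polyGrading n k) f (X_mem i) (X_mem l) le_rfl) from
      (ConcreteCategory.congr_hom (f.appLE_map le_rfl (homOfLE hW).op) _).symm]
    exact isUnit_resR hW _ le_rfl

end Groth.Agent.SepPtTan
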